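import Mathlib
import Cfsg.Agent.KFacts.RgdDiag
import Cfsg.Agent.Nodes.NormalForm

/-!
# Automorphisms normalising the torus (helper491, S4579)

`R : RGD cs h p T n X` with `GG = ⊤`, `NoFix` : `C_{X x}(T) = 1` for all roots `x`.

* `exists_rp_of_norm` : `N_Y(T) = N`;
* `exists_diag_of_T` : an automorphism with `α T ≤ T` is `conj g * γ`, `g ∈ N_Y(T)`, `Diag T X γ σ`.
-/

set_option autoImplicit false
set_option linter.unusedSectionVars false

namespace Cfsg.Agent.H491.Sd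

open CoxeterSystem Cfsg.Agent.ChevalleyStructure.CoxeterGeom Cfsg.Agent.Tits.Roots Cfsg.Agent.Tits.Core
  Cfsg.Agent.Tits.Exchange Cfsg.Agent.Nodes.Reps Cfsg.Agent.Nodes.BNOf Cfsg.Agent.Nodes.StabComb
  Cfsg.Agent.Nodes.Bruhat Cfsg.Agent.Nodes.OppDec Cfsg.Agent.Nodes.LeviDec Cfsg.Agent.Nodes.NormalForm
  Cfsg.Agent.KFacts.RgdOpp Cfsg.Agent.KFacts.RgdAut Cfsg.Agent.KFacts.RgdDiag

variable {I W Y : Type*} [Fintype I] [DecidableEq I] [Group W] [Group Y] {M : CoxeterMatrix I}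
  {cs : CoxeterSystem M W} {A : I → I → ℤ} {h : IsCartan M A} {p : ℕ} {T : Subgroup Y} {n : I → Y}
  {X : (I → ℤ) → Subgroup Y}

/-- the torus has no fixed points on the root groups -/
def NoFix (cs : CoxeterSystem M W) (h : IsCartan M A) (T : Subgroup Y) (X : (I → ℤ) → Subgroup Y) : Prop :=
  ∀ x, IsRoot cs h x → ∀ u ∈ X x, (∀ t ∈ T, t * u = u * t) → u = 1

section

variable (R : RGD cs h p T n X)

include R

/-- `C_U(T) = 1` -/
theorem centralizer_U_eq_bot [Finite W] (hno : NoFix cs h T X) {u : Y} (hu : u ∈ RGD.Sup X (RGD.Pos cs h))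
    (hc : ∀ t ∈ T, t * u = u * t) : u = 1 := by
  have h1 : u ∈ RGD.Sup X (RGD.Pos cs h) ⊓ Subgroup.centralizer (T : Set Y) :=
    ⟨hu, Subgroup.mem_centralizer_iff.2 hc⟩
  rw [centralizer_U R (le_refl _)] at h1
  have h2 : RGD.Sup (fun x => X x ⊓ Subgroup.centralizer (T : Set Y)) (RGD.Pos cs h) ≤ ⊥ := by
    refine RGD.Sup_le fun x hx => ?_
    rintro v ⟨hv, hvc⟩
    exact Subgroup.mem_bot.2 (hno x hx.1 v hv fun t ht => Subgroup.mem_centralizer_iff.1 hvc t ht)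
  exact Subgroup.mem_bot.1 (h2 h1)

/-- **`N_Y(T) = N`** -/
theorem exists_rp_of_norm [Finite W] (hG : GG cs h T X = ⊤) (hno : NoFix cs h T X) {g : Y}
    (hg : g ∈ Subgroup.normalizer (T : Set Y)) : ∃ w, Rp cs R.nsys w g := by
  obtain ⟨w, hw⟩ := (mem_GG R).1 (show g ∈ GG cs h T X by rw [hG]; exact Subgroup.mem_top g)
  obtain ⟨u, hu, k, hk, v, hv, e⟩ := exists_normal_form R hw
  have hvU : v ∈ RGD.Sup X (RGD.Pos cs h) :=
    RGD.Sup_mono (S := NW cs h w) (S' := RGD.Pos cs h) (fun x hx => ⟨hx.1, hx.2.1⟩) hv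
  have key : ∀ t ∈ T, g * t * g⁻¹ * u * (g * t * g⁻¹)⁻¹ = u ∧ t * v * t⁻¹ = v := by
    intro t ht
    have ht' : g * t * g⁻¹ ∈ T := (Subgroup.mem_normalizer_iff.1 hg t).1 ht
    have h1 := normal_form_unique R (w := w) (u := g * t * g⁻¹ * u * (g * t * g⁻¹)⁻¹) (u' := u)
      (k := g * t * g⁻¹ * k * t⁻¹) (k' := k) (v := t * v * t⁻¹) (v' := v)
      ((Subgroup.mem_normalizer_iff.1 (R.T_le_normalizer_U ht') u).1 hu) hu
      (by
        have h2 := (rp_of_mem (cs := cs) (hN := R.nsys) ht').mul (hk.mul_mem_right (inv_mem ht))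
        rw [one_mul] at h2
        rw [mul_assoc]; exact h2) hk
      ((Subgroup.mem_normalizer_iff.1 (R.T_le_normalizer (S := NW cs h w) (fun x hx => hx.1) ht) v).1 hv) hv
      (by
        rw [← e]
        have e1 : g * t * g⁻¹ * u * (g * t * g⁻¹)⁻¹ * (g * t * g⁻¹ * k * t⁻¹) * (t * v * t⁻¹) =
            g * t * g⁻¹ * (u * k * v) * t⁻¹ := by group
        rw [e1, ← e]; group)
    exact ⟨h1.1, h1.2.2⟩
  have hv1 : v = 1 := centralizer_U_eq_bot R hno hvU fun t ht => mul_inv_eq_iff_eq_mul.1 (key t ht).2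
  have hu1 : u = 1 := by
    refine centralizer_U_eq_bot R hno hu fun t ht => ?_
    have h1 : g⁻¹ * t * g ∈ T := by
      rw [Subgroup.mem_normalizer_iff.1 hg, show g * (g⁻¹ * t * g) * g⁻¹ = t by group]
      exact ht
    have h2 := (key _ h1).1
    rw [show g * (g⁻¹ * t * g) * g⁻¹ = t by group] at h2
    exact mul_inv_eq_iff_eq_mul.1 h2
  refine ⟨w, ?_⟩
  rw [e, hu1, hv1, one_mul, mul_one]
  exact hk

/-- **Automorphisms normalising the torus.** -/
theorem exists_diag_of_T [Finite W] [Finite Y] [Fact p.Prime] (hG : GG cs h T X = ⊤) {α : MulAut Y}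
    (hα : ∀ t ∈ T, α t ∈ T) :
    ∃ g ∈ Subgroup.normalizer (T : Set Y), ∃ (γ : MulAut Y) (σ : Equiv.Perm I), Diag T X γ σ ∧
      α = MulAut.conj g * γ := by
  have hαT : Fix α T := by
    rw [fix_iff]
    apply Subgroup.eq_of_le_of_card_ge
    · rintro _ ⟨t, ht, rfl⟩
      exact hα t ht
    · exact (Nat.card_congr (T.equivMapOfInjective _ α.injective).toEquiv).le
  -- `α U = g U g⁻¹`
  obtain ⟨g, hg⟩ : ∃ g : Y, (RGD.Sup X (RGD.Pos cs h)).map α.toMonoidHom = cj g (RGD.Sup X (RGD.Pos cs h)) := by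
    have hU : IsPGroup p (RGD.Sup X (RGD.Pos cs h)) := R.isPGroup_Upos
    obtain ⟨S, hS⟩ := hU.exists_le_sylow
    have hS' : (S : Subgroup Y) = RGD.Sup X (RGD.Pos cs h) :=
      eq_U_of_isPGroup R S.isPGroup' hS (by rw [hG]; exact le_top)
    let S' : Sylow p Y := S.mapSurjective (f := α.toMonoidHom) α.surjective
    obtain ⟨g, hg⟩ := MulAction.exists_smul_eq Y S S'
    refine ⟨g, ?_⟩
    have h1 : (S' : Subgroup Y) = (RGD.Sup X (RGD.Pos cs h)).map α.toMonoidHom := by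
      rw [← hS']; rfl
    rw [← h1, ← hg, ← hS']
    rfl
  have h1 : Fix (MulAut.conj g⁻¹ * α) (RGD.Sup X (RGD.Pos cs h)) := by
    rw [fix_iff]
    have h2 : (MulAut.conj g⁻¹ * α).toMonoidHom = (MulAut.conj g⁻¹).toMonoidHom.comp α.toMonoidHom := rfl
    rw [h2, ← Subgroup.map_map, hg]
    exact cj_inv_cj g _
  obtain ⟨u, hu, hU, -, hUN, -, hT⟩ := exists_frame R hG h1
  obtain ⟨σ, D⟩ := exists_diag R hG hU hUN
  refine ⟨g * u⁻¹, ?_, _, σ, D, ?_⟩
  · have h3 : Fix (MulAut.conj (g * u⁻¹)) T := by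
      have h4 : MulAut.conj (g * u⁻¹) = α * (MulAut.conj u * (MulAut.conj g⁻¹ * α))⁻¹ := by
        rw [mul_inv_rev, mul_inv_rev, map_mul, map_inv, map_inv, inv_inv]
        group
      rw [h4]
      exact hαT.mul hT.inv
    rw [Subgroup.mem_normalizer_iff]
    intro x
    have h5 := h3 x
    rw [MulAut.conj_apply] at h5
    exact h5.symm
  · rw [map_mul, map_inv, map_inv]; group

end

end Cfsg.Agent.H491.Sd
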