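import Cfsg.Agent.H491.Sd.Frames

/-!
# The index of the frame group; a criterion for `NoFix` (helper491, S4579)

* `odd_index` : `MF R β P` has odd index (argument of `ClosedExc.Frame.closedRow`, helper50);
* `noFix_of_simple` : `NoFix` if some elements of `T` invert the simple root groups, `p` odd.
-/

set_option autoImplicit false
set_option linter.unusedSectionVars false

namespace Cfsg.Agent.H491.Sd

open CoxeterSystem Cfsg.Agent.ChevalleyStructure.CoxeterGeom Cfsg.Agent.Tits.Roots Cfsg.Agent.Tits.Core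
  Cfsg.Agent.Nodes.Reps Cfsg.Agent.Nodes.BNOf Cfsg.Agent.Nodes.Bruhat Cfsg.Agent.Nodes.OppDec
  Cfsg.Agent.KFacts.RgdAut Cfsg.Agent.KFacts.RgdDiag Cfsg.Agent.Nodes.FreeTorus
  Cfsg.Agent.ClosedExc Cfsg.Agent.ClosedExc.Rk Cfsg.Agent.ClosedExc.Prod Cfsg.Agent.ClosedExc.Frame
  Cfsg.Agent.H55.Sd

variable {I W Y : Type*} [Fintype I] [DecidableEq I] [Group W] [Group Y] {M : CoxeterMatrix I}
  {cs : CoxeterSystem M W} {C : I → I → ℤ} {h : IsCartan M C} {p : ℕ} {T : Subgroup Y} {n : I → Y}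
  {X : (I → ℤ) → Subgroup Y} {ι : Type*} [Fintype ι] [Finite W] [Finite Y]
variable (R : RGD cs h p T n X) {β : ι → (I → ℤ)} {P : Subgroup W}

include R

/-- **The frame group has odd index.** -/
theorem odd_index (F : FrameData cs h X β P) (hG : RGD.Sup X {x | IsRoot cs h x} = ⊤)
    (hSL : ∀ i, IsSL (LL X (sr i)))
    (hord : ∀ m : ℕ, 2 ^ m ∣ Nat.card Y → 2 ^ m ∣ Nat.card T * Nat.card P * ∏ a, (Nat.card (X (β a)) + 1)) :
    Odd (MF R β P).index := by
  classical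
  rw [← Nat.not_even_iff_odd, even_iff_two_dvd]
  have hSL' : ∀ x, IsRoot cs h x → IsSL (LL X x) := fun x hx => isSL_of_root R hSL hx
  have hGG : GG cs h T X = ⊤ := by
    rw [eq_top_iff, ← hG]
    exact le_sup_right
  have hn := NP_le_normalizer R F
  -- the order
  have hinf : (⨆ a, LL X (β a)) ⊓ NP R P = (⨆ a, LL X (β a)) ⊓ T := by
    apply le_antisymm
    · rintro g ⟨h1, w, hw, hg⟩
      refine ⟨h1, frame_kernel R F hSL' hw hg (one_mem _) fun a => ?_⟩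
      rw [one_mul]
      exact frame_cj_E F h1 a
    · exact inf_le_inf_left _ (T_le_NP R)
  have hE : Nat.card ↥((⨆ a, LL X (β a)) ⊓ T) * ∏ a, (Nat.card (X (β a)) + 1) ∣ Nat.card ↥(⨆ a, LL X (β a)) := by
    have h1 := Prod.card_dvd (L := fun a => LL X (β a)) (K := fun a => X (β a)) F.orth
      (fun a => X_le_LL (β a)) (St := T) (fun s hs a => R.tor _ (F.root a) s hs)
    have h2 : ∀ a, Nat.card (Set.range fun g : LL X (β a) => cj (g : Y) (X (β a))) = Nat.card (X (β a)) + 1 :=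
      fun a => card_conj R hGG (F.root a)
    simp only [h2] at h1
    exact h1
  have hcard : Nat.card T * Nat.card P * ∏ a, (Nat.card (X (β a)) + 1) ∣ Nat.card ↥((⨆ a, LL X (β a)) ⊔ NP R P) := by
    have h1 := card_sup_mul' hn
    rw [hinf, card_NP R P] at h1
    obtain ⟨c, hc⟩ := hE
    rw [hc] at h1
    refine ⟨c, ?_⟩
    have hpos : 0 < Nat.card ↥((⨆ a, LL X (β a)) ⊓ T) := Nat.card_pos
    refine Nat.eq_of_mul_eq_mul_right hpos ?_
    rw [h1]; ring
  intro h2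
  have hne : Nat.card ↥((⨆ a, LL X (β a)) ⊔ NP R P) ≠ 0 := Nat.card_pos.ne'
  have h3 : 2 ^ ((Nat.card ↥((⨆ a, LL X (β a)) ⊔ NP R P)).factorization 2 + 1) ∣ Nat.card Y := by
    rw [← Subgroup.card_mul_index ((⨆ a, LL X (β a)) ⊔ NP R P), pow_succ]
    exact mul_dvd_mul (Nat.ordProj_dvd _ 2) h2
  exact Nat.pow_succ_factorization_not_dvd hne Nat.prime_two ((hord _ h3).trans hcard)

/-- if elements of `T` invert the simple root groups, then `C_{X x}(T) = 1` for all roots, `p` odd -/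
theorem noFix_of_simple (hp : p ≠ 2) [Fact p.Prime]
    (hinv : ∀ i, ∃ t ∈ T, ∀ u ∈ X (sr i), t * u * t⁻¹ = u⁻¹) : NoFix cs h T X := by
  rintro x ⟨w, i, rfl⟩ u hu hc
  obtain ⟨k, hk⟩ := exists_rp cs R.nsys w
  have hu' : k⁻¹ * u * k ∈ X (sr i) := by
    rw [← R.conj_rp hk (isRoot_sr cs h i), mem_cj] at hu
    exact hu
  obtain ⟨t, ht, hti⟩ := hinv i
  have ht' : k * t * k⁻¹ ∈ T := (Subgroup.mem_normalizer_iff.1 hk.mem_normalizer t).1 ht
  have h1 := hc _ ht'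
  have h2 := hti _ hu'
  have h3 : t * (k⁻¹ * u * k) * t⁻¹ = k⁻¹ * u * k := by
    have e : t * (k⁻¹ * u * k) * t⁻¹ = k⁻¹ * (k * t * k⁻¹ * u) * (k * t⁻¹ * k⁻¹) * k := by group
    rw [e, h1]; group
  rw [h3] at h2
  obtain ⟨m, hm⟩ := R.pgrp i ⟨_, hu'⟩
  have h4 : (k⁻¹ * u * k) ^ p ^ m = 1 := congrArg Subtype.val hm
  have h5 : (k⁻¹ * u * k) ^ 2 = 1 := by
    rw [pow_two]
    nth_rewrite 2 [h2]
    exact mul_inv_cancel _
  have h6 : Nat.Coprime 2 (p ^ m) :=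
    Nat.Coprime.pow_right m ((Nat.coprime_primes Nat.prime_two (Fact.out : p.Prime)).2 (Ne.symm hp))
  have h7 : orderOf (k⁻¹ * u * k) = 1 :=
    Nat.eq_one_of_dvd_coprimes h6 (orderOf_dvd_of_pow_eq_one h5) (orderOf_dvd_of_pow_eq_one h4)
  rw [orderOf_eq_one_iff] at h7
  have e : u = k * (k⁻¹ * u * k) * k⁻¹ := by group
  rw [e, h7]; group

end Cfsg.Agent.H491.Sd
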