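import Cfsg.Agent.H491.Sd.FrOdd
import Cfsg.Agent.ClosedExc.Rows
import Cfsg.Agent.KFacts.RgdRigid
import Cfsg.Agent.S1093

/-!
# The frame groups of `E₆(q)`, `q` odd (helper491, S4579)

* `FrE6.noFix`, `FrE6.odd_index_e6`, `FrE6.frames_e6`: for the root group datum `RGDChev.rgd` of `chevE6.group K`, a
  frame of four roots and `|P| = 8`.
-/

set_option autoImplicit false
set_option linter.unusedSectionVars false

namespace Cfsg.Agent.H491.Sd.FrE6

open CoxeterSystem Cfsg Cfsg.Lie Cfsg.Agent.ChevalleyStructure Cfsg.Agent.ChevalleyStructure.CoxeterGeom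
  Cfsg.Agent.ChevalleyStructure.Elts Cfsg.Agent.Tits.Roots Cfsg.Agent.Nodes.Reps Cfsg.Agent.Nodes.BNOf
  Cfsg.Agent.Nodes.Bruhat Cfsg.Agent.Nodes.RGDChev Cfsg.Agent.ClosedExc Cfsg.Agent.ClosedExc.Frame
  Cfsg.Agent.ClosedExc.Chev Cfsg.Agent.ClosedExc.Families Cfsg.Agent.ChevalleyStructure.NPerm
  Cfsg.Agent.ChevalleyStructure.CoxeterGeomTypes
open Cfsg.Agent.Nodes.FreeTorus (LL)
open Cfsg.Agent.KFacts.RgdAut Cfsg.Agent.KFacts.RgdDiag
open Cfsg.Agent.H491.Sd Cfsg.Agent.H55.Sd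

section Gen

variable {D : ChevalleyDatum} {l : ℕ} {M : CoxeterMatrix (Fin l)} (hp : IsType D l M) (K : Type) [Field K]
  [Fintype K] {W : Type*} [Group W] [Finite W] (cs : CoxeterSystem M W) (p : ℕ) [Fact p.Prime] [CharP K p]

/-- the torus has no fixed points on the root groups -/
theorem noFix (hp2 : p ≠ 2) (hlk : ∀ j, ∃ i, lk D l i j) : NoFix cs hp.isCartan (TG D K) (XX D l K) := by
  refine noFix_of_simple (rgd (K := K) hp cs p) hp2 fun j => ?_
  obtain ⟨i, hi⟩ := hlk j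
  have hj := simple_lt hp.inList (lt_rank hp j)
  refine ⟨OddHalf.LongSL.Chev.phi hp K i (-1), neg_one_mem_T hp K i, fun u hu => ?_⟩
  rw [← vec_simple hp j] at hu
  obtain ⟨t, ht⟩ := (mem_XX hp K hj).1 hu
  apply Subtype.ext
  have h3 := neg_one_conj hp K i hj t
  have hodd : Odd (D.cartan i (D.simple j)) := Int.odd_iff.2 hi
  rw [hodd.neg_one_zpow, neg_one_mul] at h3
  show (OddHalf.LongSL.Chev.phi hp K i (-1) : GL D.Idx K) * (u : GL D.Idx K) *
    (OddHalf.LongSL.Chev.phi hp K i (-1) : GL D.Idx K)⁻¹ = (u : GL D.Idx K)⁻¹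
  rw [← ht, h3, eq_inv_iff_mul_eq_one, xG_add, neg_add_cancel, xG_zero]

end Gen

set_option backward.isDefEq.respectTransparency false in
/-- the diagram symmetries of `E₆` -/
theorem perm_E6 : ∀ σ : Equiv.Perm (Fin 6), (∀ i j, CoxeterMatrix.E₆ (σ i) (σ j) = CoxeterMatrix.E₆ i j) →
    (∀ i, σ i = i) ∨ (∀ i, σ i = (![5, 1, 4, 3, 2, 0] : Fin 6 → Fin 6) i) := by
  decide +kernel

theorem cartan_flip : ∀ i j : Fin 6, cartanOf chevE6 6 ((![5, 1, 4, 3, 2, 0] : Fin 6 → Fin 6) i)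
    ((![5, 1, 4, 3, 2, 0] : Fin 6 → Fin 6) j) = cartanOf chevE6 6 i j := by decide +kernel

/-- a word of the longest element of `W(E₆)` -/
def w0E6 : List ℕ := [0, 3, 5, 1, 2, 4, 0, 3, 5, 1, 2, 4, 0, 3, 5, 1, 2, 4, 0, 3, 5, 1, 2, 4, 0, 3, 5, 1, 2, 4,
  0, 3, 5, 1, 2, 4]

theorem act_w0 : ∀ i : Fin 6, WFr.act WFr.cE6.AL w0E6 (WFr.ei 6 ((![5, 1, 4, 3, 2, 0] : Fin 6 → Fin 6) i)) =
    (WFr.ei 6 i).map fun x => -x := by decide +kernel

section E6

variable (K : Type) [Field K] [Fintype K] {W : Type*} [Group W] [Finite W]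
  (cs : CoxeterSystem CoxeterMatrix.E₆ W) (p : ℕ) [Fact p.Prime] [CharP K p]

theorem rep_w0_sr (i : Fin 6) :
    rep cs isType_E6.isCartan (WFr.wd cs w0E6) (sr ((![5, 1, 4, 3, 2, 0] : Fin 6 → Fin 6) i)) = -sr i := by
  have h1 := WFr.rep_wd cs isType_E6.isCartan WFr.tabE6 (WFr.ei_length 6 ((![5, 1, 4, 3, 2, 0] : Fin 6 → Fin 6) i))
    w0E6
  rw [WFr.toV_ei, act_w0, WFr.toV_neg, WFr.toV_ei] at h1
  exact h1

theorem rep_w0_comp {σ : Equiv.Perm (Fin 6)} (hσ : ∀ i, σ i = (![5, 1, 4, 3, 2, 0] : Fin 6 → Fin 6) i)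
    (x : Fin 6 → ℤ) : rep cs isType_E6.isCartan (WFr.wd cs w0E6) (x ∘ σ.symm) = -x := by
  have h1 : x = ∑ i, x i • sr i := by
    funext j
    rw [Finset.sum_apply, Finset.sum_eq_single j]
    · rw [Pi.smul_apply, sr_self, smul_eq_mul, mul_one]
    · intro i _ hij
      rw [Pi.smul_apply, sr_ne (Ne.symm hij), smul_zero]
    · intro hj
      exact absurd (Finset.mem_univ j) hj
  have h2 : x ∘ σ.symm = ∑ i, x i • sr (σ i) := by
    conv_lhs => rw [h1]
    funext j
    rw [Function.comp_apply, Finset.sum_apply, Finset.sum_apply]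
    refine Finset.sum_congr rfl fun i _ => ?_
    rw [Pi.smul_apply, Pi.smul_apply, ← sr_comp σ i, Function.comp_apply]
  rw [h2, map_sum]
  conv_rhs => rw [h1]
  rw [← Finset.sum_neg_distrib]
  refine Finset.sum_congr rfl fun i _ => ?_
  rw [map_smul, hσ, rep_w0_sr, smul_neg]

include p in
/-- automorphisms of the frame -/
theorem pm_of_diag {γ : MulAut ↥(chevE6.group K)} {σ : Equiv.Perm (Fin 6)}
    (D : Diag (TG chevE6 K) (XX chevE6 6 K) γ σ) :
    ∃ m ∈ Subgroup.normalizer (TG chevE6 K : Set ↥(chevE6.group K)),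
      PM cs isType_E6.isCartan (TG chevE6 K) (XX chevE6 6 K) (MulAut.conj m * γ) := by
  have R := rgd (K := K) isType_E6 cs p
  have hσ := D.matrix R
  rcases perm_E6 σ hσ with h1 | h1
  · have h2 : σ = 1 := Equiv.ext h1
    subst h2
    refine ⟨1, one_mem _, ?_⟩
    rw [map_one, one_mul]
    refine ⟨D.tor, Or.inl ?_⟩
    intro x hx y
    exact D.root_comp R (fun _ _ => rfl) hx y
  · obtain ⟨k, hk⟩ := exists_rp cs R.nsys (WFr.wd cs w0E6)
    refine ⟨k, hk.mem_normalizer, ?_⟩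
    have hA : ∀ i j, cartanOf chevE6 6 (σ i) (σ j) = cartanOf chevE6 6 i j := by
      intro i j
      rw [h1, h1]
      exact cartan_flip i j
    refine ⟨?_, Or.inr ?_⟩
    · refine Fix.mul ?_ D.tor
      intro x
      rw [MulAut.conj_apply]
      exact (Subgroup.mem_normalizer_iff.1 hk.mem_normalizer x).symm
    · intro x hx y
      have h3 : IsRoot cs isType_E6.isCartan (x ∘ σ.symm) := by
        have h4 := hx.neg.act (WFr.wd cs w0E6)⁻¹
        rwa [← rep_w0_comp cs h1 x, rep_inv_apply] at h4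
      rw [MulAut.mul_apply, MulAut.conj_apply, ← D.root_comp R hA hx y]
      have h5 : cj k (XX chevE6 6 K (x ∘ σ.symm)) = XX chevE6 6 K (-x) := by
        rw [← rep_w0_comp cs h1 x]
        exact R.conj_rp hk h3
      rw [← h5]
      exact conj_mem_cj

variable {ι : Type*} [Fintype ι] {β : ι → (Fin 6 → ℤ)} {P : Subgroup W}

/-- **The frame group of `E₆(q)` has odd index.** -/
theorem odd_index_e6 (hK : Odd (Fintype.card K))
    (F : FrameData cs isType_E6.isCartan (XX chevE6 6 K) β P) (hι : Fintype.card ι = 4) (hP : Nat.card P = 8) :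
    Odd (MF (rgd (K := K) isType_E6 cs p) β P).index := by
  have hT : Nat.card (TG chevE6 K) = Nat.card ↥(chevE6.diagonalSubgroup K) :=
    Nat.card_congr (Subgroup.subgroupOfEquivOfLe (Cfsg.Agent.ChevalleyStructure.Elts.diagonal_le_group
      isType_E6.inList K)).toEquiv
  refine odd_index (rgd (K := K) isType_E6 cs p) F (G1_eq_top isType_E6 cs) (isSL isType_E6 K hK) ?_
  intro m hm
  have h8 := Orders.ord_E6 hK (three_le hK) (Nat.gcd_pos_of_pos_left _ (by norm_num)).ne' (S1063.result (F := K) rfl)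
    (S1035.result (F := K) rfl (chevE6, Nat.gcd 3 (Fintype.card K - 1)) (by simp)) m hm
  have h9 : ∀ a, Nat.card (XX chevE6 6 K (β a)) = Fintype.card K := fun a => card_XX isType_E6 K cs (F.root a)
  rw [hT, hP]
  simp only [h9, Finset.prod_const, Finset.card_univ, hι]
  exact h8

theorem card_W : Nat.card CoxeterMatrix.E₆.Group = 51840 := S1093.result (⟨6, CoxeterMatrix.E₆⟩, 51840) (by simp)

/-- **The frame groups of `E₆(q)` over the torus.** -/
theorem frames_e6 (hK : Odd (Fintype.card K)) (hW : Nat.card W = 51840)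
    (F : FrameData cs isType_E6.isCartan (XX chevE6 6 K) β P) (hι : Fintype.card ι = 4) (hP : Nat.card P = 8) :
    Frames (TG chevE6 K) (Fr (rgd (K := K) isType_E6 cs p) β P) := by
  have hp2 : p ≠ 2 := by
    rintro rfl
    exact two_ne K hK CharTwo.two_eq_zero
  have hG : GG cs isType_E6.isCartan (TG chevE6 K) (XX chevE6 6 K) = ⊤ :=
    Cfsg.Agent.KFacts.RgdRigid.GG_eq_top (G1_eq_top isType_E6 cs)
  refine frames (rgd (K := K) isType_E6 cs p) hG (noFix isType_E6 K cs p hp2 (by decide +kernel)) F ?_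
    (odd_index_e6 K cs p hK F hι hP) ?_
  · intro m hm
    rw [hι, hP]
    rw [hW] at hm
    have h1 : (2 ^ 4 * 8 : ℕ) = 2 ^ 7 := by norm_num
    rw [h1]
    refine pow_dvd_pow 2 ?_
    by_contra hcon
    have h2 : 2 ^ 8 ∣ 51840 := (pow_dvd_pow 2 (by omega)).trans hm
    exact absurd h2 (by norm_num)
  · intro γ σ D
    exact pm_of_diag K cs p D

end E6

end Cfsg.Agent.H491.Sd.FrE6
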