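import Cfsg.Agent.H491.Sd.FrTw
import Cfsg.Agent.H491.Sd.FrE6
import Cfsg.Agent.H775.Sd.ChevElem
import Cfsg.Agent.H335.Sd.Frame

/-!
# The frames of `E₆(q)` and `²E₆(q)`, `q` odd, with explicit data (helper491, S4579)

* `βf l c`, `Gm cs c` : the frame and the permutations of the certificate `c`;
* `E6.frameData`, `E6.frames` : `chevE6.group K`;
* `TwE6.frameData`, `TwE6.frames` : `twistedE6 K q`.
-/

set_option autoImplicit false
set_option linter.unusedSectionVars false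
set_option maxRecDepth 100000

namespace Cfsg.Agent.H491.Sd.FrInst

open CoxeterSystem Cfsg Cfsg.Lie Cfsg.Agent.ChevalleyStructure Cfsg.Agent.ChevalleyStructure.CoxeterGeom
  Cfsg.Agent.ChevalleyStructure.Elts Cfsg.Agent.Tits.Roots Cfsg.Agent.Nodes.Reps Cfsg.Agent.Nodes.BNOf
  Cfsg.Agent.Nodes.Bruhat Cfsg.Agent.Nodes.RGDChev Cfsg.Agent.ClosedExc Cfsg.Agent.ClosedExc.Frame
  Cfsg.Agent.ClosedExc.WFr Cfsg.Agent.ClosedExc.Chev Cfsg.Agent.ChevalleyStructure.NPerm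
  Cfsg.Agent.ChevalleyStructure.CoxeterGeomTypes
open Cfsg.Agent.Nodes Cfsg.Agent.ClosedExc.Families
open Cfsg.Agent.Nodes.FreeTorus (LL)
open Cfsg.Agent.H491.Sd Cfsg.Agent.H55.Sd Cfsg.Agent.H775.Sd.ChevElem Cfsg.Agent.H335.Sd.Frame

/-- the frame of a certificate -/
abbrev βf (l : ℕ) (c : Cert) : Fin 4 → (Fin l → ℤ) := fun a => toV l (c.T.getD a [])

section E6

variable (K : Type) [Field K] {W : Type*} [Group W] (cs : CoxeterSystem CoxeterMatrix.E₆ W)

theorem frameData_e6 : FrameData cs isType_E6.isCartan (XX chevE6 6 K) (βf 6 cE6) (Subgroup.closure (Gm cs cE6)) := by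
  obtain ⟨f1, f2, f3, -⟩ := wframe' cs isType_E6.isCartan tabE6 okE6
  exact ⟨fun a => f1 a a.2, fun a b hab => lc_of_orth isType_E6 K
    (orth_of (orth1E6 a a.2 b b.2 fun e => hab (Fin.ext e))), f2, f3⟩

theorem card_P_e6 : Nat.card ↥(Subgroup.closure (Gm cs cE6)) = 8 :=
  (wframe' cs isType_E6.isCartan tabE6 okE6).2.2.2

variable [Fintype K] (p : ℕ) [Fact p.Prime] [CharP K p]

/-- **The frame groups of `E₆(q)`.** -/
theorem frames_e6 (hK : Odd (Fintype.card K)) :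
    Frames (TG chevE6 K) {M' | ∃ m ∈ Subgroup.normalizer (TG chevE6 K : Set ↥(chevE6.group K)),
      M' = (FM (rgd (K := K) isType_E6 CoxeterMatrix.E₆.toCoxeterSystem p) (βf 6 cE6)
        (Subgroup.closure (Gm CoxeterMatrix.E₆.toCoxeterSystem cE6))).map (MulAut.conj m).toMonoidHom} := by
  have : Finite CoxeterMatrix.E₆.Group := finite_W isType_E6 CoxeterMatrix.E₆.toCoxeterSystem
  exact FrE6.frames_e6 K CoxeterMatrix.E₆.toCoxeterSystem p hK FrE6.card_W
    (frameData_e6 K CoxeterMatrix.E₆.toCoxeterSystem) (Fintype.card_fin 4) (card_P_e6 CoxeterMatrix.E₆.toCoxeterSystem)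

end E6

section TwE6

open Cfsg.Agent.Nodes.RGDTwE6 (X nn isCartan foldData)

variable {K : Type} [Field K] {q : ℕ} {φ : K →+* K} (hφ : ∀ x, φ x = x ^ q) (hqq : ∀ t : K, (t ^ q) ^ q = t)
  {W : Type*} [Group W] (cs : CoxeterSystem CoxeterMatrix.F₄ W)

theorem frameData_tw : FrameData cs isCartan (X φ q) (βf 4 cTwE6) (Subgroup.closure (Gm cs cTwE6)) := by
  obtain ⟨f1, f2, f3, -⟩ := wframe' cs isCartan tabTwE6 okTwE6
  exact ⟨fun a => f1 a a.2, fun a b hab => ClosedTw.lc_lst (orth1TwE6 a a.2 b b.2 fun e => hab (Fin.ext e)), f2, f3⟩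

theorem card_P_tw : Nat.card ↥(Subgroup.closure (Gm cs cTwE6)) = 8 :=
  (wframe' cs isCartan tabTwE6 okTwE6).2.2.2

theorem long_tw (a : Fin 4) : ∃ w, βf 4 cTwE6 a = rep cs isCartan w (sr 0) := by
  obtain ⟨b, hb⟩ := exists_ne a
  exact (long_of_mem cs (orth1TwE6 a a.2 b b.2 fun e => hb (Fin.ext e).symm)).1

variable [Fintype K] (p : ℕ) [Fact p.Prime] [CharP K p]

/-- **The frame groups of `²E₆(q)`.** -/
theorem frames_tw (hq : IsPrimePow q) (hK : Fintype.card K = q ^ 2) (ho : Odd q) :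
    Frames (RGDTwE6.T K q) {M' | ∃ m ∈ Subgroup.normalizer (RGDTwE6.T K q : Set ↥(twistedE6 K q)),
      M' = (FM (RGDTwE6.rgd CoxeterMatrix.F₄.toCoxeterSystem hφ hqq p) (βf 4 cTwE6)
        (Subgroup.closure (Gm CoxeterMatrix.F₄.toCoxeterSystem cTwE6))).map (MulAut.conj m).toMonoidHom} := by
  have : Finite CoxeterMatrix.F₄.Group :=
    Cfsg.Agent.Nodes.RGDFold.finite_W (hp := RGDTwE6.hp) CoxeterMatrix.F₄.toCoxeterSystem isCartan foldData
  exact FrTw.frames_tw hφ hqq CoxeterMatrix.F₄.toCoxeterSystem p hq hK ho FrTw.card_W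
    (frameData_tw CoxeterMatrix.F₄.toCoxeterSystem) (Fintype.card_fin 4) (card_P_tw CoxeterMatrix.F₄.toCoxeterSystem)
    (long_tw CoxeterMatrix.F₄.toCoxeterSystem)

end TwE6

end Cfsg.Agent.H491.Sd.FrInst
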