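import Cfsg.Agent.H491.Sd.FrOdd
import Cfsg.Agent.ClosedRed.Inst
import Cfsg.Agent.KFacts.RgdRigid
import Cfsg.Agent.S1092

/-!
# The frame groups of `²E₆(q)`, `q` odd (helper491, S4579)

* `FrTw.noFix`, `FrTw.exists_frame`: for the root group datum `RGDTwE6.rgd` of type `F₄` there are four long roots `β a`
  and a subgroup `P` of order 8 of the Weyl group with `FrameData`, `MF R β P` of odd index, `Frames T (Fr R β P)`.
-/

set_option autoImplicit false
set_option linter.unusedSectionVars false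

namespace Cfsg.Agent.H491.Sd.FrTw

open CoxeterSystem Subgroup
open Cfsg.Agent.ChevalleyStructure.CoxeterGeom Cfsg.Agent.Tits.Roots Cfsg.Agent.Tits.Core
  Cfsg.Agent.Nodes.Reps Cfsg.Agent.Nodes.BNOf Cfsg.Agent.Nodes.Bruhat
open Cfsg.Lie Cfsg.Agent.ChevalleyStructure Cfsg.Agent.ChevalleyStructure.Elts
  Cfsg.Agent.ChevalleyStructure.TwE6Basic Cfsg.Agent.ChevalleyStructure.TwE6BN
open Cfsg.Agent.Nodes Cfsg.Agent.Nodes.RGDChev Cfsg.Agent.Nodes.RGDFold Cfsg.Agent.Nodes.RGDTwGen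
open Cfsg.Agent.Nodes.RGDTwE6 (X nn isCartan foldData)
open Cfsg.Agent.GpExc Cfsg.Agent.GpExc.TwNode
open Cfsg.Agent.Nodes.FreeTorus (LL)
open Cfsg.Agent.ClosedTwo.Torus Cfsg.Agent.ClosedTwo.Elem Cfsg.Agent.ClosedExc Cfsg.Agent.ClosedExc.Rk
  Cfsg.Agent.ClosedExc.Frame Cfsg.Agent.ClosedExc.FoldInst Cfsg.Agent.ClosedTw
open Cfsg.Agent.KFacts.RgdAut Cfsg.Agent.KFacts.RgdDiag
open Cfsg.Agent.H491.Sd Cfsg.Agent.H55.Sd

theorem x_inv {K : Type} [Field K] (s : ℕ) (t : K) : (x s t)⁻¹ = x s (-t) := by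
  rw [inv_eq_iff_mul_eq_one]
  show xG hE6 s t * xG hE6 s (-t) = 1
  rw [Elts.xG_add, add_neg_cancel, Elts.xG_zero]

variable {K : Type} [Field K] {q : ℕ} {φ : K →+* K} (hφ : ∀ x, φ x = x ^ q)

/-- the square of a reflection inverts the root groups of odd pairing -/
theorem inv_of_par {i j : Fin 4} (hp : par i j) (u : ↥(twistedE6 K q)) (hu : u ∈ X φ q (sr j)) :
    (nn hφ i)⁻¹ * (nn hφ i)⁻¹ * u * ((nn hφ i)⁻¹ * (nn hφ i)⁻¹)⁻¹ = u⁻¹ := by
  rw [mem_X_pos] at hu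
  apply Subtype.ext
  rw [Subgroup.coe_mul, Subgroup.coe_mul, Subgroup.coe_inv, coe_nn_sq, Subgroup.coe_inv]
  rcases TwE6BN.classes.{0} j with ⟨s, C⟩ | ⟨s, s', C⟩
  · have hs : s < chevE6.nroots := C.lt
    have h1 := hu.1
    rw [C.pos] at h1
    obtain ⟨t, ht⟩ := rs_single h1
    rw [ht, x_inv]
    have h5 := hI_conj (K := K) (RGDTwE6.J i) hs t
    rw [neg_one_zpow_odd (hp s (by rw [C.pos]; simp)), neg_one_mul] at h5
    exact h5
  · have hs : s < chevE6.nroots := C.lt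
    have hs' : s' < chevE6.nroots := C.lt'
    obtain ⟨t, t', ht⟩ := C.mem_pos hu.1
    rw [ht, mul_inv_rev, x_inv, x_inv, C.comm1]
    have h5 := hI_conj (K := K) (RGDTwE6.J i) hs t
    have h6 := hI_conj (K := K) (RGDTwE6.J i) hs' t'
    rw [neg_one_zpow_odd (hp s (by rw [C.pos]; simp)), neg_one_mul] at h5
    rw [neg_one_zpow_odd (hp s' (by rw [C.pos]; simp)), neg_one_mul] at h6
    have e : hI K (RGDTwE6.J i) * (x s t * x s' t') * (hI K (RGDTwE6.J i))⁻¹ =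
        hI K (RGDTwE6.J i) * x s t * (hI K (RGDTwE6.J i))⁻¹ *
        (hI K (RGDTwE6.J i) * x s' t' * (hI K (RGDTwE6.J i))⁻¹) := by group
    rw [e]
    exact congrArg₂ (· * ·) h5 h6

theorem sq_mem_T (i : Fin 4) : (nn hφ i)⁻¹ * (nn hφ i)⁻¹ ∈ RGDTwE6.T K q := by
  show _ ∈ (chevE6.diagonalSubgroup K ⊓ twistedE6 K q).subgroupOf (twistedE6 K q)
  rw [Subgroup.mem_subgroupOf, coe_nn_sq]
  refine ⟨hI_mem _, ?_⟩
  rw [← coe_nn_sq hφ]
  exact Subtype.property _

variable [Fintype K] (hqq : ∀ t : K, (t ^ q) ^ q = t) {W : Type*} [Group W] [Finite W]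
  (cs : CoxeterSystem CoxeterMatrix.F₄ W) (p : ℕ) [Fact p.Prime] [CharP K p]

include hφ hqq cs in
theorem noFix (hp : p ≠ 2) : NoFix cs isCartan (RGDTwE6.T K q) (X φ q) := by
  refine noFix_of_simple (RGDTwE6.rgd cs hφ hqq p) hp fun j => ?_
  have h : ∃ i, par i j := by
    fin_cases j
    exacts [⟨1, par10⟩, ⟨0, par01⟩, ⟨1, par12⟩, ⟨2, par23⟩]
  obtain ⟨i, hi⟩ := h
  exact ⟨_, sq_mem_T hφ i, inv_of_par hφ hi⟩

theorem card_W : Nat.card CoxeterMatrix.F₄.Group = 1152 := S1092.result (⟨4, CoxeterMatrix.F₄⟩, 1152) (by simp)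

set_option backward.isDefEq.respectTransparency false in
/-- the diagram symmetries of `F₄` -/
theorem perm_F4 : ∀ σ : Equiv.Perm (Fin 4), (∀ i j, CoxeterMatrix.F₄ (σ i) (σ j) = CoxeterMatrix.F₄ i j) →
    σ = 1 ∨ σ 0 = 3 := by
  decide +kernel

include hφ hqq in
/-- the short root groups -/
theorem card_X3 (hK : Fintype.card K = q ^ 2) : Nat.card (X φ q (sr 3)) = q ^ 2 := by
  have h1 : Nat.card (X φ q (sr 3)) =
      Nat.card {x : GL chevE6.Idx K // x ∈ TwE6BN.rs K (TwE6Basic.posE 3) ∧ x ∈ twistedE6 K q} := by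
    refine Nat.card_congr ⟨fun g => ⟨(g.1 : GL chevE6.Idx K), ((mem_X_pos 3 g.1).1 g.2).1, g.1.2⟩,
      fun x => ⟨⟨x.1, x.2.2⟩, (mem_X_pos 3 _).2 ⟨x.2.1, twisted_le_fix φ hφ hqq x.2.2⟩⟩,
      fun g => rfl, fun x => rfl⟩
  rw [h1]
  exact TwE6Card.card_pair φ hφ hqq hK pair3

theorem hat_one {I : Type*} [Fintype I] [DecidableEq I] {W : Type*} [Group W] {M : CoxeterMatrix I} (cs : CoxeterSystem M W)
    (hσ : ∀ i j, M ((1 : Equiv.Perm I) i) ((1 : Equiv.Perm I) j) = M i j) (w : W) : hat cs 1 hσ w = w := by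
  have h1 : hat cs 1 hσ = MonoidHom.id W := by
    apply cs.ext_simple
    intro i
    rw [hat_simple]; rfl
  rw [h1]; rfl

include cs hφ hqq p in
/-- automorphisms of the frame fix all root groups -/
theorem pm_of_diag (hq : 1 < q) (hK : Fintype.card K = q ^ 2) {γ : MulAut ↥(twistedE6 K q)}
    {σ : Equiv.Perm (Fin 4)} (D : Diag (RGDTwE6.T K q) (X φ q) γ σ) :
    PM cs isCartan (RGDTwE6.T K q) (X φ q) γ := by
  have R := RGDTwE6.rgd cs hφ hqq p
  have hσ := D.matrix R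
  rcases perm_F4 σ hσ with rfl | h3
  · refine ⟨D.tor, Or.inl ?_⟩
    rintro x ⟨w, i, rfl⟩ y
    have h1 := D.root R hσ w i y
    rw [hat_one, Equiv.Perm.one_apply] at h1
    exact h1
  · exfalso
    have h1 : (X φ q (sr 0)).map γ.toMonoidHom = X φ q (sr 3) := by
      apply map_eq_of_iff
      intro y
      have := D.pos 0 y
      rwa [h3] at this
    have h2 : Nat.card (X φ q (sr 3)) = Nat.card (X φ q (sr 0)) := by
      rw [← h1]
      exact (Nat.card_congr (Subgroup.equivMapOfInjective _ γ.toMonoidHom γ.injective).toEquiv).symm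
    rw [card_X3 hφ hqq hK, card_X0 hφ hqq hq hK] at h2
    have h4 : q * 1 < q * q := Nat.mul_lt_mul_of_pos_left hq (by omega)
    rw [pow_two] at h2
    omega

variable {ι : Type*} [Fintype ι] {β : ι → (Fin 4 → ℤ)} {P : Subgroup W}

include hφ hqq p in
/-- the roots of the certificate are long -/
theorem card_long (hq : 1 < q) (hK : Fintype.card K = q ^ 2) {x : Fin 4 → ℤ}
    (hx : ∃ w, x = rep cs isCartan w (sr 0)) : Nat.card (X φ q x) = q := by
  obtain ⟨w, rfl⟩ := hx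
  have R := RGDTwE6.rgd cs hφ hqq p
  obtain ⟨g, hg⟩ := exists_rp cs R.nsys w
  have h1 := R.conj_rp hg (isRoot_sr cs isCartan 0)
  have h3 : Nat.card (cj g (X φ q (sr 0))) = Nat.card (X φ q (sr 0)) :=
    Nat.card_congr ((X φ q (sr 0)).equivMapOfInjective _ (MulAut.conj g).injective).toEquiv.symm
  rw [← h1, h3, card_X0 hφ hqq hq hK]

/-- **The frame group of `²E₆(q)` has odd index.** -/
theorem odd_index_tw (hq : IsPrimePow q) (hK : Fintype.card K = q ^ 2) (ho : Odd q)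
    (F : FrameData cs isCartan (X φ q) β P) (hι : Fintype.card ι = 4) (hP : Nat.card P = 8)
    (hlong : ∀ a, ∃ w, β a = rep cs isCartan w (sr 0)) :
    Odd (MF (RGDTwE6.rgd cs hφ hqq p) β P).index := by
  have hKo : Odd (Fintype.card K) := by rw [hK]; exact ho.pow
  have h2 : (2 : K) ≠ 0 := SL.two_ne hKo
  have hN := nodes hφ hqq hq.one_lt hK ho h2
  have : Finite ↥(twistedE6 K q) := inferInstance
  refine odd_index (RGDTwE6.rgd cs hφ hqq p) F (RGDTwE6.G1_eq_top cs hφ hqq) (fun i => (hN i).2) ?_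
  intro m hm
  have hq3 : 3 ≤ q := by
    have h1 := hq.two_le
    rcases ho with ⟨k, hk⟩
    omega
  have hT : Nat.gcd 3 (q + 1) * Nat.card (RGDTwE6.T K q) = (q - 1) ^ 4 * (q + 1) ^ 2 := by
    rw [← S1102.result hq hK]
    congr 1
    exact Nat.card_congr (Subgroup.subgroupOfEquivOfLe inf_le_right).toEquiv
  have h3 := Orders.ord_TwE6 ho hq3 (Nat.gcd_pos_of_pos_left _ (by norm_num : 0 < 3)).ne'
    (S1066.result hq hK) hT m hm
  rw [hP, Finset.prod_congr rfl fun a _ => by rw [card_long hφ hqq cs p hq.one_lt hK (hlong a)], Finset.prod_const,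
    Finset.card_univ, hι]
  exact h3

/-- **The frame groups of `²E₆(q)` over the torus.** -/
theorem frames_tw (hq : IsPrimePow q) (hK : Fintype.card K = q ^ 2) (ho : Odd q) (hW : Nat.card W = 1152)
    (F : FrameData cs isCartan (X φ q) β P) (hι : Fintype.card ι = 4) (hP : Nat.card P = 8)
    (hlong : ∀ a, ∃ w, β a = rep cs isCartan w (sr 0)) :
    Frames (RGDTwE6.T K q) (Fr (RGDTwE6.rgd cs hφ hqq p) β P) := by
  have hp2 : p ≠ 2 := by
    rintro rfl
    have h1 : (2 : K) = 0 := CharTwo.two_eq_zero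
    have hKo : Odd (Fintype.card K) := by rw [hK]; exact ho.pow
    exact SL.two_ne hKo h1
  have hG : GG cs isCartan (RGDTwE6.T K q) (X φ q) = ⊤ :=
    Cfsg.Agent.KFacts.RgdRigid.GG_eq_top (RGDTwE6.G1_eq_top cs hφ hqq)
  refine frames (RGDTwE6.rgd cs hφ hqq p) hG (noFix hφ hqq cs p hp2) F ?_
    (odd_index_tw hφ hqq cs p hq hK ho F hι hP hlong) ?_
  · intro m hm
    rw [hι, hP]
    rw [hW] at hm
    have h1 : (2 ^ 4 * 8 : ℕ) = 2 ^ 7 := by norm_num
    rw [h1]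
    refine pow_dvd_pow 2 ?_
    by_contra hcon
    have h2 : 2 ^ 8 ∣ 1152 := (pow_dvd_pow 2 (by omega)).trans hm
    exact absurd h2 (by norm_num)
  · intro γ σ D
    refine ⟨1, one_mem _, ?_⟩
    rw [map_one, one_mul]
    exact pm_of_diag hφ hqq cs p hq.one_lt hK D

end Cfsg.Agent.H491.Sd.FrTw
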