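import Cfsg.Agent.H491.Sd.Norm
import Cfsg.Agent.H55.Sd.Iface
import Cfsg.Agent.ClosedExc.Frame

/-!
# Frame groups over the torus (helper491, S4579)

`R : RGD cs h p T n X`, `β` a frame of roots with commuting rank one groups, `P` a subgroup of the Weyl group permuting
`{± β a}` faithfully (`FrameData`).

* `MF R β P = (⨆ a, LL X (β a)) ⊔ NP R P`, `Fr R β P` : the `N_Y(T)`-conjugates of `MF R β P`;
* `PM γ` : `γ` fixes `T` and all `X x`, or maps all `X x` to `X (-x)`;
* `frames : Frames T (Fr R β P)`, if `MF R β P` has odd index, the 2-part of `|W|` divides `2 ^ k |P|` and every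
  automorphism of the frame `(T, X (± α_i))` is in `PM` after multiplication by an element of `N_Y(T)`.
-/

set_option autoImplicit false
set_option linter.unusedSectionVars false

namespace Cfsg.Agent.H491.Sd

open CoxeterSystem Cfsg.Agent.ChevalleyStructure.CoxeterGeom Cfsg.Agent.Tits.Roots Cfsg.Agent.Tits.Core
  Cfsg.Agent.Nodes.Reps Cfsg.Agent.Nodes.BNOf Cfsg.Agent.Nodes.Bruhat Cfsg.Agent.Nodes.OppDec
  Cfsg.Agent.KFacts.RgdAut Cfsg.Agent.KFacts.RgdDiag Cfsg.Agent.Nodes.FreeTorus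
  Cfsg.Agent.ClosedExc Cfsg.Agent.ClosedExc.Rk Cfsg.Agent.ClosedExc.Prod Cfsg.Agent.ClosedExc.Frame
  Cfsg.Agent.H55.Sd

section

variable {I W Y : Type*} [Fintype I] [DecidableEq I] [Group W] [Group Y] {M : CoxeterMatrix I}
  {cs : CoxeterSystem M W} {C : I → I → ℤ} {h : IsCartan M C} {p : ℕ} {T : Subgroup Y} {n : I → Y}
  {X : (I → ℤ) → Subgroup Y} {ι : Type*}

/-- The frame group. -/
def MF (R : RGD cs h p T n X) (β : ι → (I → ℤ)) (P : Subgroup W) : Subgroup Y := (⨆ a, LL X (β a)) ⊔ NP R P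

/-- The frame groups over `T`. -/
def Fr (R : RGD cs h p T n X) (β : ι → (I → ℤ)) (P : Subgroup W) : Set (Subgroup Y) :=
  {K | ∃ m ∈ Subgroup.normalizer (T : Set Y), K = cj m (MF R β P)}

/-- `γ` fixes `T` and all root groups, or `T` and maps all root groups to the opposite ones. -/
structure PM (cs : CoxeterSystem M W) (h : IsCartan M C) (T : Subgroup Y) (X : (I → ℤ) → Subgroup Y)
    (γ : MulAut Y) : Prop where
  tor : Fix γ T
  root : (∀ x, IsRoot cs h x → ∀ y, γ y ∈ X x ↔ y ∈ X x) ∨ (∀ x, IsRoot cs h x → ∀ y, γ y ∈ X (-x) ↔ y ∈ X x)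

theorem map_eq_of_iff {γ : MulAut Y} {H K : Subgroup Y} (hHK : ∀ y, γ y ∈ K ↔ y ∈ H) : H.map γ.toMonoidHom = K := by
  ext x
  constructor
  · rintro ⟨y, hy, rfl⟩
    exact (hHK y).2 hy
  · intro hx
    refine ⟨γ⁻¹ x, (hHK _).1 (by rwa [MulAut.apply_inv_self]), ?_⟩
    exact MulAut.apply_inv_self _ γ x

theorem map_cj {γ : MulAut Y} (m : Y) (H : Subgroup Y) :
    (cj m H).map γ.toMonoidHom = cj (γ m) (H.map γ.toMonoidHom) := by
  unfold cj
  rw [Subgroup.map_map, Subgroup.map_map]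
  congr 1
  ext x
  show γ (m * x * m⁻¹) = γ m * γ x * (γ m)⁻¹
  rw [map_mul, map_mul, map_inv]

theorem PM.map_LL {γ : MulAut Y} (hγ : PM cs h T X γ) {x : I → ℤ} (hx : IsRoot cs h x) :
    (LL X x).map γ.toMonoidHom = LL X x := by
  unfold LL
  rw [Subgroup.map_sup]
  rcases hγ.root with h1 | h1
  · rw [map_eq_of_iff (h1 x hx), map_eq_of_iff (h1 (-x) hx.neg)]
  · have h2 := h1 (-x) hx.neg
    rw [neg_neg] at h2
    rw [map_eq_of_iff (h1 x hx), map_eq_of_iff h2, sup_comm]

variable (R : RGD cs h p T n X)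

include R

theorem PM.map_NP [Finite W] (hG : GG cs h T X = ⊤) (hno : NoFix cs h T X) {γ : MulAut Y} (hγ : PM cs h T X γ)
    (P : Subgroup W) : (NP R P).map γ.toMonoidHom = NP R P := by
  have key : ∀ δ : MulAut Y, PM cs h T X δ → ∀ (w : W) (g : Y), Rp cs R.nsys w g → Rp cs R.nsys w (δ g) := by
    intro δ hδ w g hg
    have hn : δ g ∈ Subgroup.normalizer (T : Set Y) := by
      rw [Subgroup.mem_normalizer_iff]
      intro t
      have h1 := Subgroup.mem_normalizer_iff.1 hg.mem_normalizer (δ⁻¹ t)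
      have h2 : δ (g * δ⁻¹ t * g⁻¹) = δ g * t * (δ g)⁻¹ := by
        rw [map_mul, map_mul, map_inv, MulAut.apply_inv_self]
      rw [← h2, hδ.tor, ← h1]
      exact (hδ.tor.inv t).symm
    obtain ⟨w', hw'⟩ := exists_rp_of_norm R hG hno hn
    suffices hww : w' = w by rwa [hww] at hw'
    have h3 : ∀ x, IsRoot cs h x → rep cs h w' x = rep cs h w x := by
      intro x hx
      rcases hδ.root with h1 | h1
      · apply X_injective R (hx.act _) (hx.act _)
        rw [← R.conj_rp hw' hx, ← map_eq_of_iff (h1 _ (hx.act w)), ← R.conj_rp hg hx, map_cj,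
          map_eq_of_iff (h1 x hx)]
      · have h4 : rep cs h w' (-x) = -rep cs h w x := by
          apply X_injective R (hx.neg.act _) (hx.act _).neg
          rw [← R.conj_rp hw' hx.neg, ← map_eq_of_iff (h1 _ (hx.act w)), ← R.conj_rp hg hx, map_cj,
            map_eq_of_iff (h1 x hx)]
        rw [map_neg, neg_inj] at h4
        exact h4
    have h5 : w⁻¹ * w' = 1 := by
      refine eq_one_of_fix cs h _ fun i => ?_
      show rep cs h (w⁻¹ * w') (sr i) = sr i
      rw [rep_mul_apply, h3 _ (isRoot_sr cs h i), rep_inv_apply]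
    exact (inv_mul_eq_one.1 h5).symm
  have hγ' : PM cs h T X γ⁻¹ := by
    refine ⟨hγ.tor.inv, ?_⟩
    rcases hγ.root with h1 | h1
    · left
      intro x hx y
      rw [← h1 x hx, MulAut.apply_inv_self]
    · right
      intro x hx y
      have h2 := h1 (-x) hx.neg (γ⁻¹ y)
      rw [neg_neg, MulAut.apply_inv_self] at h2
      exact h2.symm
  apply map_eq_of_iff
  intro y
  constructor
  · rintro ⟨w, hw, hy⟩
    refine ⟨w, hw, ?_⟩
    have := key γ⁻¹ hγ' w _ hy
    rwa [MulAut.inv_apply_self] at this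
  · rintro ⟨w, hw, hy⟩
    exact ⟨w, hw, key γ hγ w y hy⟩

theorem PM.map_MF [Finite W] (hG : GG cs h T X = ⊤) (hno : NoFix cs h T X) {γ : MulAut Y} (hγ : PM cs h T X γ)
    {β : ι → (I → ℤ)} (hβ : ∀ a, IsRoot cs h (β a)) (P : Subgroup W) :
    (MF R β P).map γ.toMonoidHom = MF R β P := by
  unfold MF
  rw [Subgroup.map_sup, hγ.map_NP R hG hno, Subgroup.map_iSup]
  congr 1
  exact iSup_congr fun a => hγ.map_LL (hβ a)

end

/-! ### the number of frame groups -/

theorem index_cj {Y : Type*} [Group Y] (m : Y) (H : Subgroup Y) : (cj m H).index = H.index := by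
  have h1 : cj m H = H.map ((MulAut.conj m : Y ≃* Y) : Y →* Y) := rfl
  rw [h1, Subgroup.index_map_equiv]

section

variable {I W Y : Type*} [Fintype I] [DecidableEq I] [Group W] [Group Y] {M : CoxeterMatrix I}
  {cs : CoxeterSystem M W} {C : I → I → ℤ} {h : IsCartan M C} {p : ℕ} {T : Subgroup Y} {n : I → Y}
  {X : (I → ℤ) → Subgroup Y} {ι : Type*}
variable (R : RGD cs h p T n X)

/-- the elements of the Weyl group which fix all `± β a` and have representatives in `⨆ a, LL X (β a)` -/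
def AA (R : RGD cs h p T n X) (β : ι → (I → ℤ)) : Subgroup W where
  carrier := {w | (∀ a, rep cs h w (β a) = β a ∨ rep cs h w (β a) = -β a) ∧
    ∃ g ∈ (⨆ a, LL X (β a) : Subgroup Y), Rp cs R.nsys w g}
  mul_mem' := by
    rintro v w ⟨hv, g, hg, hgr⟩ ⟨hw, g', hg', hgr'⟩
    refine ⟨fun a => ?_, g * g', mul_mem hg hg', hgr.mul hgr'⟩
    rw [rep_mul_apply]
    rcases hw a with h1 | h1 <;> rcases hv a with h2 | h2 <;> rw [h1] <;> simp [h2]
  one_mem' := ⟨fun a => Or.inl (by rw [map_one, Module.End.one_apply]), 1, one_mem _, rp_one⟩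
  inv_mem' := by
    rintro w ⟨hw, g, hg, hgr⟩
    refine ⟨fun a => ?_, g⁻¹, inv_mem hg, hgr.inv⟩
    rcases hw a with h1 | h1
    · left
      conv_lhs => rw [← h1]
      rw [rep_inv_apply]
    · right
      have h2 : rep cs h w⁻¹ (rep cs h w (β a)) = rep cs h w⁻¹ (-β a) := by rw [h1]
      rw [rep_inv_apply, map_neg] at h2
      have h3 := congrArg Neg.neg h2
      rw [neg_neg] at h3
      exact h3.symm

theorem mem_AA {R : RGD cs h p T n X} {β : ι → (I → ℤ)} {w : W} : w ∈ AA R β ↔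
    (∀ a, rep cs h w (β a) = β a ∨ rep cs h w (β a) = -β a) ∧
      ∃ g ∈ (⨆ a, LL X (β a) : Subgroup Y), Rp cs R.nsys w g := Iff.rfl

variable {β : ι → (I → ℤ)} {P : Subgroup W}

include R

/-- representatives of elements of `AA` are in the frame group -/
theorem NP_AA_le : NP R (AA R β) ≤ MF R β P := by
  rintro g ⟨w, ⟨-, k, hk, hkr⟩, hg⟩
  have h1 : k⁻¹ * g ∈ T := hkr.unique hg
  have h2 : g = k * (k⁻¹ * g) := by group
  rw [h2]
  exact mul_mem (Subgroup.mem_sup_left hk) (Subgroup.mem_sup_right (T_le_NP R h1))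

theorem NP_mono {P P' : Subgroup W} (hP : P ≤ P') : NP R P ≤ NP R P' := fun _ ⟨w, hw, hg⟩ => ⟨w, hP hw, hg⟩

theorem NP_sup_le {P' : Subgroup W} {K : Subgroup Y} (h1 : NP R P ≤ K) (h2 : NP R P' ≤ K) :
    NP R (P ⊔ P') ≤ K := by
  have key : ∀ w ∈ P ⊔ P', ∀ g, Rp cs R.nsys w g → g ∈ K := by
    intro w hw
    rw [Subgroup.sup_eq_closure] at hw
    induction hw using Subgroup.closure_induction with
    | mem w hw =>
      intro g hg
      rcases hw with hw | hw
      · exact h1 ⟨w, hw, hg⟩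
      · exact h2 ⟨w, hw, hg⟩
    | one => exact fun g hg => h1 (T_le_NP R hg.mem_of_one)
    | mul v w _ _ hv hw =>
      intro g hg
      obtain ⟨k, hk⟩ := exists_rp cs R.nsys v
      have h3 : Rp cs R.nsys w (k⁻¹ * g) := by
        have := hk.inv.mul hg
        rwa [inv_mul_cancel_left] at this
      have h4 : g = k * (k⁻¹ * g) := by group
      rw [h4]
      exact mul_mem (hv k hk) (hw _ h3)
    | inv w _ hw =>
      intro g hg
      have := hg.inv
      rw [inv_inv] at this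
      rw [← inv_inv g]
      exact inv_mem (hw _ this)
  rintro g ⟨w, hw, hg⟩
  exact key w hw g hg

variable [Finite W]

/-- the reflection in a root of the frame -/
theorem exists_refl (F : FrameData cs h X β P) [DecidableEq ι] (a : ι) : ∃ w ∈ AA R β,
    ∀ b, rep cs h w (β b) = if b = a then -β b else β b := by
  obtain ⟨v, i, hv⟩ := F.root a
  obtain ⟨m, hm, hr⟩ := exists_m' R hv
  have hw : ∀ b, rep cs h (v * cs.simple i * v⁻¹) (β b) = if b = a then -β b else β b := by
    intro b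
    by_cases hab : b = a
    · rw [if_pos hab, hab, rep_mul_apply, rep_mul_apply, hv, rep_inv_apply, rep_simple_sr, map_neg]
    · rw [if_neg hab]
      apply X_injective R ((F.root b).act _) (F.root b)
      rw [← R.conj_rp hr (F.root b)]
      exact cj_eq_of_commute (L := LL X (β b)) (fun y hy => F.orth a b (Ne.symm hab) m hm y hy) (X_le_LL (β b))
  refine ⟨v * cs.simple i * v⁻¹, ⟨fun b => ?_, m, le_iSup (fun a => LL X (β a)) a hm, hr⟩, hw⟩
  rw [hw]
  by_cases hab : b = a
  · rw [if_pos hab]; exact Or.inr rfl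
  · rw [if_neg hab]; exact Or.inl rfl

omit [Finite W] R in
theorem root_ne_neg {x : I → ℤ} (hx : IsRoot cs h x) : x ≠ -x := by
  intro h1
  have h2 : x = 0 := by
    funext i
    have := congrFun h1 i
    rw [Pi.neg_apply] at this
    simp only [Pi.zero_apply]
    omega
  obtain ⟨w, i, rfl⟩ := hx
  have h3 := congrArg (rep cs h w⁻¹) h2
  rw [rep_inv_apply, map_zero] at h3
  have h4 := congrFun h3 i
  rw [sr_self] at h4
  exact one_ne_zero h4

/-- the signs -/
noncomputable def sgn (F : FrameData cs h X β P) : AA R β →* (ι → ℤˣ) := by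
  classical
  exact
  { toFun := fun w a => if rep cs h (w : W) (β a) = β a then 1 else -1
    map_one' := by
      funext a
      simp
    map_mul' := by
      rintro ⟨v, hv, hv'⟩ ⟨w, hw, hw'⟩
      funext a
      show (if rep cs h (v * w) (β a) = β a then (1 : ℤˣ) else -1) =
        (if rep cs h v (β a) = β a then (1 : ℤˣ) else -1) * (if rep cs h w (β a) = β a then (1 : ℤˣ) else -1)
      have hne := root_ne_neg (F.root a)
      rw [rep_mul_apply]
      rcases hw a with h1 | h1 <;> rcases hv a with h2 | h2 <;> rw [h1] <;> simp [h2, hne.symm] }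

theorem sgn_surjective (F : FrameData cs h X β P) [Finite ι] : Function.Surjective (sgn R F) := by
  classical
  have := Fintype.ofFinite ι
  have h1 : ∀ a, Pi.mulSingle a (-1 : ℤˣ) ∈ (sgn R F).range := by
    intro a
    obtain ⟨w, hw, e⟩ := exists_refl R F a
    refine ⟨⟨w, hw⟩, ?_⟩
    funext b
    show (if rep cs h w (β b) = β b then (1 : ℤˣ) else -1) = _
    rw [e b]
    by_cases hab : b = a
    · subst hab
      rw [if_pos rfl, if_neg (root_ne_neg (F.root b)).symm, Pi.mulSingle_eq_same]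
    · rw [if_neg hab, if_pos rfl, Pi.mulSingle_eq_of_ne hab]
  intro f
  have h2 : f ∈ (sgn R F).range := by
    rw [← Finset.univ_prod_mulSingle f]
    refine Subgroup.prod_mem _ fun a _ => ?_
    rcases Int.units_eq_one_or (f a) with h3 | h3
    · rw [h3, Pi.mulSingle_one]; exact one_mem _
    · rw [h3]; exact h1 a
  exact h2

theorem card_AA_dvd (F : FrameData cs h X β P) [Fintype ι] : 2 ^ Fintype.card ι ∣ Nat.card (AA R β) := by
  have h1 := Subgroup.card_dvd_of_surjective (sgn R F) (sgn_surjective R F)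
  rwa [Nat.card_pi, Finset.prod_const, Finset.card_univ, show Nat.card ℤˣ = 2 by
    rw [Nat.card_eq_fintype_card, Fintype.card_units_int]] at h1

theorem AA_inf (F : FrameData cs h X β P) : AA R β ⊓ P = ⊥ := by
  rw [eq_bot_iff]
  rintro w ⟨⟨h1, -⟩, h2⟩
  exact Subgroup.mem_bot.2 (F.faith w h2 h1)

variable [Finite Y]

theorem P_le_normalizer (F : FrameData cs h X β P) [Fintype ι] : P ≤ Subgroup.normalizer (AA R β : Set W) := by
  have key : ∀ v ∈ P, ∀ w ∈ AA R β, v * w * v⁻¹ ∈ AA R β := by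
    rintro v hv w ⟨hw, g, hg, hgr⟩
    obtain ⟨k, hk⟩ := exists_rp cs R.nsys v
    refine ⟨fun a => ?_, k * g * k⁻¹, ?_, (hk.mul hgr).mul hk.inv⟩
    · obtain ⟨b, hb⟩ := F.perm v⁻¹ (inv_mem hv) a
      rw [rep_mul_apply, rep_mul_apply]
      have h0 : rep cs h v (rep cs h v⁻¹ (β a)) = β a := rep_apply_inv _ _ _ _
      rcases hb with hb | hb <;> rcases hw b with h1 | h1 <;> rw [hb] at h0 ⊢ <;>
        simp only [map_neg, h1, neg_neg] at h0 ⊢ <;> simp [← h0]
    · have h1 := NP_le_normalizer R F (show k ∈ NP R P from ⟨v, hv, hk⟩)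
      exact (Subgroup.mem_normalizer_iff.1 h1 g).1 hg
  intro v hv
  rw [Subgroup.mem_normalizer_iff]
  intro w
  refine ⟨key v hv w, fun hw => ?_⟩
  have := key v⁻¹ (inv_mem hv) _ hw
  rwa [inv_inv, show v⁻¹ * (v * w * v⁻¹) * v = w by group] at this

theorem card_AAP (F : FrameData cs h X β P) [Fintype ι] :
    2 ^ Fintype.card ι * Nat.card P ∣ Nat.card (AA R β ⊔ P : Subgroup W) := by
  have h1 := card_sup_mul' (P_le_normalizer R F)
  rw [AA_inf R F, Subgroup.card_bot, mul_one] at h1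
  rw [h1]
  exact mul_dvd_mul (card_AA_dvd R F) dvd_rfl

omit [Finite W] [Finite Y] in
theorem NP_AAP_le : NP R (AA R β ⊔ P) ≤ MF R β P := NP_sup_le R (NP_AA_le R) le_sup_right

/-- the preimage of `AA ⊔ P` has odd index in `N_Y(T)` -/
theorem odd_relIndex_NP (hG : GG cs h T X = ⊤) (hno : NoFix cs h T X) (F : FrameData cs h X β P) [Fintype ι]
    (hW : ∀ m : ℕ, 2 ^ m ∣ Nat.card W → 2 ^ m ∣ 2 ^ Fintype.card ι * Nat.card P) :
    Odd ((NP R (AA R β ⊔ P)).relIndex (Subgroup.normalizer (T : Set Y))) := by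
  have hN : Subgroup.normalizer (T : Set Y) = NP R ⊤ := by
    ext g
    constructor
    · intro hg
      obtain ⟨w, hw⟩ := exists_rp_of_norm R hG hno hg
      exact ⟨w, Subgroup.mem_top _, hw⟩
    · rintro ⟨w, -, hw⟩
      exact hw.mem_normalizer
  rw [hN]
  have h1 := card_mul_relIndex' (NP_mono R (le_top : AA R β ⊔ P ≤ ⊤))
  rw [card_NP, card_NP, Subgroup.card_top] at h1
  have h2 : Nat.card (AA R β ⊔ P : Subgroup W) * (NP R (AA R β ⊔ P)).relIndex (NP R ⊤) = Nat.card W := by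
    have h3 : 0 < Nat.card T := Nat.card_pos
    apply Nat.eq_of_mul_eq_mul_right h3
    rw [← h1]; ring
  rw [← Nat.not_even_iff_odd, even_iff_two_dvd]
  intro h3
  have h4 : 0 < Nat.card (AA R β ⊔ P : Subgroup W) := Nat.card_pos
  have h5 : 2 ^ ((Nat.card (AA R β ⊔ P : Subgroup W)).factorization 2 + 1) ∣ Nat.card W := by
    rw [← h2, pow_succ]
    exact mul_dvd_mul (Nat.ordProj_dvd _ 2) h3
  exact Nat.pow_succ_factorization_not_dvd h4.ne' Nat.prime_two ((hW _ h5).trans (card_AAP R F))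

end

section

universe u

variable {I W : Type*} {Y : Type u} [Fintype I] [DecidableEq I] [Group W] [Group Y] {M : CoxeterMatrix I}
  {cs : CoxeterSystem M W} {C : I → I → ℤ} {h : IsCartan M C} {p : ℕ} {T : Subgroup Y} {n : I → Y}
  {X : (I → ℤ) → Subgroup Y} {ι : Type*} [Finite W] [Finite Y] [Fact p.Prime] [Fintype ι]
variable (R : RGD cs h p T n X) {β : ι → (I → ℤ)} {P : Subgroup W}

open scoped Pointwise in
/-- **The frame groups over `T`.** -/
theorem frames (hG : GG cs h T X = ⊤) (hno : NoFix cs h T X) (F : FrameData cs h X β P)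
    (hW : ∀ m : ℕ, 2 ^ m ∣ Nat.card W → 2 ^ m ∣ 2 ^ Fintype.card ι * Nat.card P)
    (hodd : Odd (MF R β P).index)
    (hPM : ∀ (γ : MulAut Y) (σ : Equiv.Perm I), Diag T X γ σ →
      ∃ m ∈ Subgroup.normalizer (T : Set Y), PM cs h T X (MulAut.conj m * γ)) :
    Frames T (Fr R β P) where
  odd := by
    let _ : MulAction ↥(Subgroup.normalizer (T : Set Y)) (Subgroup Y) :=
      MulAction.compHom (Subgroup Y) ((MulAut.conj : Y →* MulAut Y).comp (Subgroup.normalizer (T : Set Y)).subtype)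
    have h1 : Fr R β P = MulAction.orbit ↥(Subgroup.normalizer (T : Set Y)) (MF R β P) := by
      ext K
      constructor
      · rintro ⟨m, hm, rfl⟩
        exact ⟨⟨m, hm⟩, rfl⟩
      · rintro ⟨⟨m, hm⟩, rfl⟩
        exact ⟨m, hm, rfl⟩
    rw [h1, Nat.card_coe_set_eq, ← MulAction.index_stabilizer]
    refine Odd.of_dvd_nat (odd_relIndex_NP R hG hno F hW) ?_
    refine Subgroup.index_dvd_of_le ?_
    intro g hg
    rw [Subgroup.mem_subgroupOf] at hg
    rw [MulAction.mem_stabilizer_iff]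
    exact cj_eq_of_mem (NP_AAP_le R hg)
  index := by
    rintro _ ⟨m, -, rfl⟩
    rw [index_cj]
    exact hodd
  stab := by
    rintro α hα _ ⟨m, hm, rfl⟩
    obtain ⟨g, hg, γ, σ, D, rfl⟩ := exists_diag_of_T R hG hα
    obtain ⟨m₁, hm₁, hγ⟩ := hPM γ σ D
    obtain ⟨δ, hδ⟩ : ∃ δ, δ = MulAut.conj m₁ * γ := ⟨_, rfl⟩
    rw [← hδ] at hγ
    have e : MulAut.conj g * γ = MulAut.conj (g * m₁⁻¹) * δ := by
      rw [hδ, map_mul, map_inv]; group
    have e2 : (MulAut.conj g * γ).toMonoidHom = (MulAut.conj (g * m₁⁻¹)).toMonoidHom.comp δ.toMonoidHom := by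
      rw [e]; rfl
    rw [e2, ← Subgroup.map_map, map_cj, hγ.map_MF R hG hno F.root]
    refine ⟨g * m₁⁻¹ * δ m, mul_mem (mul_mem hg (inv_mem hm₁)) ?_, ?_⟩
    · have h1 := hγ.tor.normalizer
      exact (h1 m).2 hm
    · rw [cj_mul]; rfl

end

end Cfsg.Agent.H491.Sd
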