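import Mathlib
import Cfsg.Agent.H643.Sd.Def
import Cfsg.Agent.ClassificationK.GTwoSylow
import Cfsg.Agent.H285.D4Sylow
import Cfsg.Agent.S1059
import Cfsg.Agent.S1157
import Cfsg.Agent.S4625

/-!
# S4579: `Elem` for `G₂(q)`, `³D₄(q)`, `²G₂(q)` (helper491, project S4579 of helper643)

* `elem_g2`, `elem_3d4`, `elem_ree`;
* `lin2_T` : the model group `T m` of the Sylow 2-subgroups of `G₂(q)` and `³D₄(q)`.
-/

set_option autoImplicit false

namespace Cfsg.Agent.H491.Sd

universe u v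

open Cfsg Cfsg.Lie Cfsg.Agent.H643.Sd
open Cfsg.Agent.ClassificationK.GTwoModel Cfsg.Agent.ClassificationK.GTwoModel.T

theorem lin2_congr {P : Type*} {Q : Type*} [Group P] [Group Q] (e : P ≃* Q) (h : Lin2 Q) : Lin2 P := by
  intro f x
  have h1 := h (f.comp e.symm.toMonoidHom) (e x)
  simpa using h1

theorem lin2_of_mul_self {P : Type*} [Group P] (h : ∀ x : P, x * x = 1) : Lin2 P := by
  intro f x
  rw [sq, ← map_mul, h, map_one]

theorem lin2_of_commutator {P : Type*} [Group P] (h : ∀ x : P, x ^ 2 ∈ commutator P) : Lin2 P := by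
  intro f x
  rw [← map_pow]
  exact MonoidHom.mem_ker.1 (Abelianization.commutator_subset_ker f (h x))

/-- the model group -/
theorem lin2_T (m : ℕ) : Lin2 (T m) := by
  intro f x
  have ht : f ⟨0, 0, true, false⟩ ^ 2 = 1 := by
    rw [← map_pow]
    have h1 : (⟨0, 0, true, false⟩ : T m) ^ 2 = 1 := by
      rw [sq, mul_mk, one_def]
      simp
    rw [h1, map_one]
  have hu : f ⟨0, 0, false, true⟩ ^ 2 = 1 := by
    rw [← map_pow]
    have h1 : (⟨0, 0, false, true⟩ : T m) ^ 2 = 1 := by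
      rw [sq, mul_mk, one_def]
      simp
    rw [h1, map_one]
  have hij : ∀ i j : ZMod m, f ⟨i, j, false, false⟩ ^ 2 = 1 := by
    intro i j
    have h1 : (⟨i, j, false, false⟩ : T m) * ⟨0, 0, true, false⟩ * ⟨i, j, false, false⟩ = ⟨0, 0, true, false⟩ := by
      rw [mul_mk, mul_mk]
      simp
    have h2 := congrArg f h1
    rw [map_mul, map_mul] at h2
    have h3 : f ⟨i, j, false, false⟩ ^ 2 * f ⟨0, 0, true, false⟩ = 1 * f ⟨0, 0, true, false⟩ := by
      rw [one_mul]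
      conv_rhs => rw [← h2]
      rw [sq]
      ac_rfl
    exact mul_right_cancel h3
  have hte : ∀ e : Bool, f ⟨0, 0, e, false⟩ ^ 2 = 1 := by
    intro e
    cases e
    · exact hij 0 0
    · exact ht
  have hud : ∀ d : Bool, f ⟨0, 0, false, d⟩ ^ 2 = 1 := by
    intro d
    cases d
    · exact hij 0 0
    · exact hu
  obtain ⟨i, j, e, d⟩ := x
  have h1 : (⟨i, j, e, d⟩ : T m) = ⟨i, j, false, false⟩ * ⟨0, 0, e, false⟩ * ⟨0, 0, false, d⟩ := by
    rw [mul_mk, mul_mk]
    simp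
  rw [h1, map_mul, map_mul, mul_pow, mul_pow, hij, hte, hud, one_mul, one_mul]

/-- transport of a Sylow subgroup -/
theorem exists_sylow {S G : Type*} [Group S] [Finite S] [Group G] [Finite G] (e : S ≃* G) (P : Sylow 2 S) :
    ∃ Q : Sylow 2 G, Nonempty ((P : Subgroup S) ≃* (Q : Subgroup G)) := by
  have : Fact (Nat.Prime 2) := ⟨Nat.prime_two⟩
  refine ⟨P.mapSurjective (f := e.toMonoidHom) e.surjective, ⟨?_⟩⟩
  exact (P : Subgroup S).equivMapOfInjective e.toMonoidHom e.injective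

theorem charP_two_of_not_odd {F : Type*} [Field F] [Fintype F] (h : ¬ Odd (Fintype.card F)) : CharP F 2 := by
  obtain ⟨p, hp⟩ := CharP.exists F
  have hpp := CharP.char_is_prime F p
  obtain ⟨n, -, hn⟩ := FiniteField.card F p
  have h2 : 2 ∣ p ^ (n : ℕ) := by
    rw [← hn]
    exact even_iff_two_dvd.1 (Nat.not_odd_iff_even.1 h)
  have h3 : 2 = p := (Nat.prime_dvd_prime_iff_eq Nat.prime_two hpp).1 (Nat.prime_two.dvd_of_dvd_pow h2)
  rw [h3]
  exact hp

/-- **`G₂(q)`**, `q` odd -/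
theorem elem_g2_odd {S : Type u} [Group S] [Finite S] {F : Type v} [Field F] [Fintype F] (hF : Odd (Fintype.card F))
    (e : S ≃* chevG2.group F) : Elem S := by
  intro P
  have : Finite (chevG2.group F) := inferInstance
  obtain ⟨Q, ⟨i⟩⟩ := exists_sylow e P
  obtain ⟨k, -, ⟨j⟩⟩ := Cfsg.Agent.ClassificationK.GTwoSylow.exists_equiv hF (Cfsg.Agent.S1059.result rfl) Q
  exact lin2_congr (i.trans j.symm) (lin2_T _)

/-- **`³D₄(q)`**, `q` odd -/
theorem elem_3d4_odd {S : Type u} [Group S] [Finite S] {K : Type v} [Field K] [Fintype K] {q : ℕ} (hq : Odd q)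
    (hK : Fintype.card K = q ^ 3) (e : S ≃* twistedD4 K q) : Elem S := by
  intro P
  have : Finite (twistedD4 K q) := inferInstance
  obtain ⟨Q, ⟨i⟩⟩ := exists_sylow e P
  obtain ⟨k, -, -, -, -, ⟨j⟩⟩ := Cfsg.Agent.H285.D4Sylow.exists_equiv hq hK Q
  exact lin2_congr (i.trans j.symm) (lin2_T _)

/-- a group of Lie type of characteristic `2` -/
theorem elem_of_char_two {S : Type u} [Group S] [Finite S] [IsSimpleGroup S] (h : IsLieTypeChar 2 S) : Elem S :=
  fun P => lin2_of_commutator (Cfsg.Agent.S4625.result h P)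

/-- **`G₂(q)`** -/
theorem elem_g2 {S : Type u} [Group S] [Finite S] [IsSimpleGroup S] (h : IsoChevG2 S) : Elem S := by
  obtain ⟨F, _, _, hF3, ⟨e⟩⟩ := h
  by_cases hF : Odd (Fintype.card F)
  · exact elem_g2_odd hF e
  · have := charP_two_of_not_odd hF
    exact elem_of_char_two (Or.inr (Or.inr (Or.inr (Or.inr (Or.inr (Or.inr (Or.inl
      ⟨F, inferInstance, inferInstance, this, Or.inl ⟨hF3, ⟨e⟩⟩⟩)))))))

/-- **`³D₄(q)`** -/
theorem elem_3d4 {S : Type u} [Group S] [Finite S] [IsSimpleGroup S] (h : Iso3D4 S) : Elem S := by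
  obtain ⟨K, _, _, q, hq, hK, ⟨e⟩⟩ := h
  by_cases hodd : Odd q
  · exact elem_3d4_odd hodd hK e
  · have : CharP K 2 := charP_two_of_not_odd (by
      rw [hK]
      intro h1
      exact hodd (Nat.Odd.of_mul_left (n := q ^ 2) (by rwa [← pow_succ'])))
    exact elem_of_char_two (Or.inr (Or.inr (Or.inr (Or.inr (Or.inr (Or.inr (Or.inr (Or.inl
      ⟨K, inferInstance, inferInstance, this, q, hq, Or.inr ⟨hK, ⟨e⟩⟩⟩))))))))

/-- **`²G₂(q)`** -/
theorem elem_ree {S : Type u} [Group S] [Finite S] (h : IsoRee S) : Elem S := by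
  obtain ⟨K, _, _, m, hm, hK, ⟨e⟩⟩ := h
  intro P
  have : Finite (twistedG2 K (3 ^ m)) := inferInstance
  obtain ⟨Q, ⟨i⟩⟩ := exists_sylow e P
  obtain ⟨a, haH, ha1, ha2⟩ := Cfsg.Agent.S1157.exists_involution (m := m) hK
  have h2 := ((Cfsg.Agent.S1152.result hK a haH ha1 ha2).2 Q).2
  exact lin2_congr i (lin2_of_mul_self fun x => Subtype.ext (h2 x x.2))

end Cfsg.Agent.H491.Sd
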